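import Groth.Agent.L19.Tower.Basic
import Groth.Agent.L20.UnivHomeo
import Mathlib.AlgebraicGeometry.ResidueField
import Mathlib.FieldTheory.PurelyInseparable.Basic

/-!
# Towers and universal homeomorphisms of spectra
-/

universe u

open CategoryTheory AlgebraicGeometry

namespace Groth.L19.Tower

set_option backward.isDefEq.respectTransparency.types false
set_option backward.isDefEq.respectTransparency false
set_option linter.style.haveILetI false

variable {A B : Type u} [CommRing A] [CommRing B]

/-- The canonical map to the residue field of a point of the spectrum. -/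
noncomputable def toKappa (q : Spec (CommRingCat.of B)) :
    B →+* (Spec (CommRingCat.of B)).residueField q :=
  (CommRingCat.ofHom (algebraMap B q.asIdeal.ResidueField) ≫
    (Scheme.Spec.residueFieldIso (CommRingCat.of B) q).inv).hom

theorem toKappa_eq_zero (q : Spec (CommRingCat.of B)) {b : B} :
    toKappa q b = 0 ↔ b ∈ q.asIdeal := by
  rw [← Ideal.algebraMap_residueField_eq_zero (I := q.asIdeal)]
  exact map_eq_zero_iff (Scheme.Spec.residueFieldIso (CommRingCat.of B) q).inv.hom
    (ConcreteCategory.bijective_of_isIso _).1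

theorem exists_toKappa_div (q : Spec (CommRingCat.of B))
    (x : (Spec (CommRingCat.of B)).residueField q) :
    ∃ a s : B, s ∉ q.asIdeal ∧ x * toKappa q s = toKappa q a := by
  obtain ⟨a, s, hs, h⟩ := IsFractionRing.div_surjective (A := B ⧸ q.asIdeal)
    ((Scheme.Spec.residueFieldIso (CommRingCat.of B) q).hom x)
  obtain ⟨a, rfl⟩ := Ideal.Quotient.mk_surjective a
  obtain ⟨s, rfl⟩ := Ideal.Quotient.mk_surjective s
  have hs' : s ∉ q.asIdeal := fun h' => nonZeroDivisors.ne_zero hs
    (Ideal.Quotient.eq_zero_iff_mem.mpr h')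
  refine ⟨a, s, hs', ?_⟩
  have hne : algebraMap B q.asIdeal.ResidueField s ≠ 0 := fun h' =>
    hs' (Ideal.algebraMap_residueField_eq_zero.mp h')
  have hx : algebraMap B q.asIdeal.ResidueField a =
      (Scheme.Spec.residueFieldIso (CommRingCat.of B) q).hom x *
        algebraMap B q.asIdeal.ResidueField s := by
    rw [← h, ← Ideal.algebraMap_quotient_residueField_mk, ← Ideal.algebraMap_quotient_residueField_mk,
      div_mul_cancel₀ _ (by rwa [← Ideal.algebraMap_quotient_residueField_mk] at hne)]
  simp only [toKappa, CommRingCat.comp_apply, CommRingCat.hom_comp, RingHom.comp_apply,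
    CommRingCat.hom_ofHom]
  rw [hx, map_mul]
  simp

variable [Algebra A B]

/-- The morphism of spectra. -/
noncomputable abbrev spec (A B : Type u) [CommRing A] [CommRing B] [Algebra A B] :
    Spec (CommRingCat.of B) ⟶ Spec (CommRingCat.of A) :=
  Spec.map (CommRingCat.ofHom (algebraMap A B))

theorem mem_spec_apply (q : Spec (CommRingCat.of B)) (a : A) :
    a ∈ (spec A B q).asIdeal ↔ algebraMap A B a ∈ q.asIdeal := Iff.rfl

theorem residueFieldMap_toKappa (q : Spec (CommRingCat.of B)) (a : A) :
    (spec A B).residueFieldMap q (toKappa (spec A B q) a) = toKappa q (algebraMap A B a) := by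
  have h : CommRingCat.ofHom (algebraMap A (spec A B q).asIdeal.ResidueField) ≫
      (Scheme.Spec.residueFieldIso (CommRingCat.of A) (spec A B q)).inv ≫
        (spec A B).residueFieldMap q =
      CommRingCat.ofHom (algebraMap A B) ≫ CommRingCat.ofHom (algebraMap B q.asIdeal.ResidueField) ≫
        (Scheme.Spec.residueFieldIso (CommRingCat.of B) q).inv := by
    refine (Scheme.Spec.algebraMap_residueFieldIso_inv_assoc (CommRingCat.of A) (spec A B q) _).trans
      (Eq.trans ?_ (congrArg (CommRingCat.ofHom (algebraMap A B) ≫ ·)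
        (Scheme.Spec.algebraMap_residueFieldIso_inv (CommRingCat.of B) q).symm))
    rw [Scheme.residue_residueFieldMap, Scheme.Hom.germ_stalkMap_assoc]
    exact (Scheme.ΓSpecIso_inv_naturality_assoc (CommRingCat.ofHom (algebraMap A B)) _).symm
  exact congr($h a)

theorem isIntegral_of_isUnivHomeo (h : FlatMor.IsUnivHomeo (spec A B)) :
    Algebra.IsIntegral A B :=
  algebraMap_isIntegral_iff.mp
    ((IsIntegralHom.SpecMap_iff (φ := CommRingCat.ofHom (algebraMap A B))).mp
      (Groth.L20.isIntegralHom_of_isUnivHomeo h))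

theorem specInj_of_isUnivHomeo (h : FlatMor.IsUnivHomeo (spec A B)) : SpecInj A B := by
  intro q₁ q₂ h₁ h₂ e
  have := (Groth.L20.isHomeomorph_of_isUnivHomeo h).injective
    (a₁ := (⟨q₁, h₁⟩ : Spec (CommRingCat.of B))) (a₂ := ⟨q₂, h₂⟩) (PrimeSpectrum.ext e)
  exact congrArg PrimeSpectrum.asIdeal this

theorem resCond_of_surjective
    (h : ∀ x, Function.Surjective ((spec A B).residueFieldMap x)) :
    ResCond A B (fun e => e = 1) := by
  intro q hq
  let x : Spec (CommRingCat.of B) := ⟨q, hq⟩
  refine ⟨1, rfl, Or.inl rfl, fun b => ?_⟩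
  obtain ⟨y, hy⟩ := h x (toKappa x b)
  obtain ⟨a, s, hs, hys⟩ := exists_toKappa_div _ y
  refine ⟨0, a, s, hs, (toKappa_eq_zero x).mp ?_⟩
  have := congrArg ((spec A B).residueFieldMap x) hys
  rw [map_mul, hy, residueFieldMap_toKappa, residueFieldMap_toKappa] at this
  rw [map_sub, map_mul, ← this]
  simp [mul_comm]

theorem resCond_of_universallyInjective (h : UniversallyInjective (spec A B)) :
    ResCond A B (fun _ => True) := by
  intro q hq
  let x : Spec (CommRingCat.of B) := ⟨q, hq⟩
  have hpi := (((tfae_universallyInjective (spec A B)).out 0 2 rfl rfl).mp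
    h).2 x
  algebraize [((spec A B).residueFieldMap x).hom]
  obtain ⟨e, he⟩ := ExpChar.exists ((Spec (CommRingCat.of A)).residueField (spec A B x))
  have he' : e = 1 ∨ e.Prime ∧ (e : B) ∈ q := by
    rcases he with _ | hp
    · exact Or.inl rfl
    · refine Or.inr ⟨hp, (toKappa_eq_zero x).mp ?_⟩
      rw [map_natCast, ← map_natCast ((spec A B).residueFieldMap x).hom, CharP.cast_eq_zero,
        map_zero]
  refine ⟨e, trivial, he', fun b => ?_⟩
  obtain ⟨n, y, hy⟩ := IsPurelyInseparable.pow_mem
    ((Spec (CommRingCat.of A)).residueField (spec A B x)) e (toKappa x b)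
  obtain ⟨a, s, hs, hys⟩ := exists_toKappa_div _ y
  refine ⟨n, a, s, hs, (toKappa_eq_zero x).mp ?_⟩
  have := congrArg ((spec A B).residueFieldMap x) hys
  rw [map_mul, show (spec A B).residueFieldMap x y = toKappa x b ^ (e ^ n) from hy,
    residueFieldMap_toKappa, residueFieldMap_toKappa] at this
  rw [map_sub, map_mul, map_pow, ← this, mul_comm, sub_self]

theorem resCond_of_isUnivHomeo (h : FlatMor.IsUnivHomeo (spec A B)) :
    ResCond A B (fun _ => True) :=
  resCond_of_universallyInjective ((Groth.L20.isUnivHomeo_iff _).mp h).2.1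

variable (A B) in
/-- The only subalgebra closed under `P` is the whole algebra. -/
def Gen (P : Subalgebra A B → B → Prop) : Prop :=
  ∀ S : Subalgebra A B, (∀ b, P S b → b ∈ S) → S = ⊤

theorem Gen.toPPr (h : Gen A B PSq) : Gen A B PPr :=
  fun S hS => h S fun b hb => hS b (Or.inl hb)

theorem gen_of_covered {P : Subalgebra A B → B → Prop}
    (hmono : ∀ (S T : Subalgebra A B) (b : B), S ≤ T → P S b → P T b)
    (h : ∀ b, ∃ l, Adm P l ∧ b ∈ Algebra.adjoin A {b : B | b ∈ l}) : Gen A B P :=
  fun S hS => eq_top_iff.mpr fun b _ => by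
    obtain ⟨l, hl, hb⟩ := h b
    exact adjoin_le_of_adm hmono hS hl hb

theorem gen_pSq_of_resCond [Algebra.IsIntegral A B] (hspec : SpecInj A B)
    (hres : ResCond A B (fun e => e = 1)) : Gen A B PSq :=
  fun S hS => eq_top_of_closed hspec hres S (fun b h2 h3 => hS b ⟨h2, h3⟩)
    fun _ h hp _ _ _ => absurd (h ▸ hp) Nat.not_prime_one

theorem gen_pPr_of_isUnivHomeo (h : FlatMor.IsUnivHomeo (spec A B)) : Gen A B PPr :=
  fun S hS => haveI := isIntegral_of_isUnivHomeo h
    eq_top_of_closed (specInj_of_isUnivHomeo h) (resCond_of_isUnivHomeo h) S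
      (fun b h2 h3 => hS b (Or.inl ⟨h2, h3⟩)) fun p _ hp b h1 h2 => hS b (Or.inr ⟨p, hp, h1, h2⟩)

theorem gen_pSq_of_isUnivHomeo (h : FlatMor.IsUnivHomeo (spec A B))
    (hres : ∀ x, Function.Surjective ((spec A B).residueFieldMap x)) : Gen A B PSq :=
  haveI := isIntegral_of_isUnivHomeo h
  gen_pSq_of_resCond (specInj_of_isUnivHomeo h) (resCond_of_surjective hres)

theorem isIntegral_of_gen (h : Gen A B PPr) : Algebra.IsIntegral A B := by
  refine ⟨fun b => ?_⟩
  have := h (integralClosure A B) fun b hb => isIntegral_of_closed hb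
  exact (this.symm ▸ Algebra.mem_top : b ∈ integralClosure A B)

theorem universallyInjective_of_gen (h : Gen A B PPr) : UniversallyInjective (spec A B) := by
  refine ((tfae_universallyInjective (spec A B)).out 0 1 rfl rfl).mpr fun K _ g₁ g₂ e => ?_
  obtain ⟨f₁, rfl⟩ := Spec.map_surjective g₁
  obtain ⟨f₂, rfl⟩ := Spec.map_surjective g₂
  simp only [spec, ← Spec.map_comp, Spec.map_inj] at e
  let φ₁ : B →+* K := f₁.hom
  let φ₂ : B →+* K := f₂.hom
  let S : Subalgebra A B :=
    { carrier := {b | φ₁ b = φ₂ b}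
      mul_mem' := fun {a b} (ha : φ₁ a = φ₂ a) (hb : φ₁ b = φ₂ b) =>
        show φ₁ (a * b) = φ₂ (a * b) by rw [map_mul, map_mul, ha, hb]
      add_mem' := fun {a b} (ha : φ₁ a = φ₂ a) (hb : φ₁ b = φ₂ b) =>
        show φ₁ (a + b) = φ₂ (a + b) by rw [map_add, map_add, ha, hb]
      algebraMap_mem' := fun a => congr($e a) }
  have hS : S = ⊤ := h S fun b hb => by
    rcases hb with ⟨h2, h3⟩ | ⟨p, hp, h1, h2⟩
    · exact eq_of_sq_cube (x := φ₁ b)
        (by rw [← map_pow, ← map_pow]; exact h2) (by rw [← map_pow, ← map_pow]; exact h3)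
    · refine eq_of_prime (x := φ₁ b) hp ?_ (by rw [← map_pow, ← map_pow]; exact h2)
      have : φ₁ ((p : B) * b) = φ₂ ((p : B) * b) := h1
      simpa [map_mul, map_natCast] using this
  congr 1
  ext b
  have hb : b ∈ S := hS.symm ▸ Algebra.mem_top
  exact hb

theorem isUnivHomeo_of_gen (h : Gen A B PPr) (hsurj : Function.Surjective (spec A B)) :
    FlatMor.IsUnivHomeo (spec A B) := by
  haveI := isIntegral_of_gen h
  haveI : IsIntegralHom (spec A B) :=
    (IsIntegralHom.SpecMap_iff (φ := CommRingCat.ofHom (algebraMap A B))).mpr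
      (algebraMap_isIntegral_iff.mpr inferInstance)
  exact (Groth.L20.isUnivHomeo_iff _).mpr
    ⟨inferInstance, universallyInjective_of_gen h, ⟨hsurj⟩⟩

theorem surjective_residueFieldMap_of_gen (h : Gen A B PSq) (x : Spec (CommRingCat.of B)) :
    Function.Surjective ((spec A B).residueFieldMap x) := by
  have hS := h (fracMod x.asIdeal) fun b hb => fracMod_closed x.asIdeal hb
  have key : ∀ b, toKappa x b ∈ ((spec A B).residueFieldMap x).hom.fieldRange := fun b => by
    obtain ⟨a, s, hs, hb⟩ := (hS.symm ▸ Algebra.mem_top : b ∈ fracMod x.asIdeal)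
    rw [← toKappa_eq_zero, map_sub, sub_eq_zero, map_mul] at hb
    have hne : toKappa x (algebraMap A B s) ≠ 0 := fun h => hs ((toKappa_eq_zero x).mp h)
    rw [show toKappa x b = toKappa x (algebraMap A B a) / toKappa x (algebraMap A B s) by
      rw [eq_div_iff hne, mul_comm, hb]]
    exact div_mem ⟨_, residueFieldMap_toKappa x a⟩ ⟨_, residueFieldMap_toKappa x s⟩
  intro y
  obtain ⟨a, s, hs, hy⟩ := exists_toKappa_div x y
  have hne : toKappa x s ≠ 0 := fun h => hs ((toKappa_eq_zero x).mp h)
  rw [← eq_div_iff hne] at hy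
  exact hy ▸ div_mem (key a) (key s)

theorem surjective_spec_of_injective [Algebra.IsIntegral A B]
    (hinj : Function.Injective (algebraMap A B)) : Function.Surjective (spec A B) := by
  intro p
  obtain ⟨q, -, hq, hqp⟩ := Ideal.exists_ideal_over_prime_of_isIntegral p.asIdeal (⊥ : Ideal B)
    (fun a ha => by
      have : a = 0 := hinj (by simpa using ha)
      simp [this])
  exact ⟨⟨q, hq⟩, PrimeSpectrum.ext hqp⟩

theorem gen_reach {P : Subalgebra A B → B → Prop}
    (hmono : ∀ (S T : Subalgebra A B) (b : B), S ≤ T → P S b → P T b)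
    (hclosed : ∀ b, P (reach P hmono) b → b ∈ reach P hmono)
    (P' : Subalgebra A (reach P hmono) → reach P hmono → Prop)
    (hP : ∀ S b, P (S.map (reach P hmono).val) b.1 → P' S b) :
    Gen A (reach P hmono) P' := by
  intro S hS
  rw [eq_top_iff]
  rintro ⟨b, l, hl, hb⟩ -
  have hle : S.map (reach P hmono).val ≤ reach P hmono := by
    rintro _ ⟨c, -, rfl⟩; exact c.2
  have := adjoin_le_of_adm hmono (S := S.map (reach P hmono).val) (fun c hc =>
    ⟨⟨c, hclosed c (hmono _ _ _ hle hc)⟩, hS ⟨c, hclosed c (hmono _ _ _ hle hc)⟩ (hP _ _ hc), rfl⟩)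
    hl hb
  obtain ⟨c, hc, rfl⟩ := this
  exact hc

theorem gen_reach_pPr : Gen A (reach (A := A) (B := B) PPr pPr_mono) PPr :=
  gen_reach pPr_mono pPr_closed_reach _ fun S b h => by
    have hmem : ∀ {z : reach (A := A) (B := B) PPr pPr_mono}, (z : B) ∈
        S.map (reach (A := A) (B := B) PPr pPr_mono).val → z ∈ S := by
      rintro z ⟨c, hc, he⟩; rwa [← (Subtype.ext he : c = z)]
    rcases h with ⟨h2, h3⟩ | ⟨p, hp, h1, h2⟩
    · exact Or.inl ⟨hmem (by push_cast; exact h2), hmem (by push_cast; exact h3)⟩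
    · exact Or.inr ⟨p, hp, hmem (by push_cast; exact h1), hmem (by push_cast; exact h2)⟩

theorem gen_reach_pSq : Gen A (reach (A := A) (B := B) PSq pSq_mono) PSq :=
  gen_reach pSq_mono pSq_closed_reach _ fun S b h => by
    have hmem : ∀ {z : reach (A := A) (B := B) PSq pSq_mono}, (z : B) ∈
        S.map (reach (A := A) (B := B) PSq pSq_mono).val → z ∈ S := by
      rintro z ⟨c, hc, he⟩; rwa [← (Subtype.ext he : c = z)]
    exact ⟨hmem (by push_cast; exact h.1), hmem (by push_cast; exact h.2)⟩

theorem range_le_reach_pPr {C : Type u} [CommRing C] [Algebra A C] (g : C →ₐ[A] B)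
    (h : Gen A C PPr) : g.range ≤ reach (A := A) (B := B) PPr pPr_mono := by
  rintro _ ⟨c, rfl⟩
  have := h ((reach (A := A) (B := B) PPr pPr_mono).comap g) fun c hc => by
    refine pPr_closed_reach (g c) ?_
    rcases hc with ⟨h2, h3⟩ | ⟨p, hp, h1, h2⟩
    · exact Or.inl ⟨by rw [← map_pow]; exact h2, by rw [← map_pow]; exact h3⟩
    · exact Or.inr ⟨p, hp, by rw [← map_natCast g, ← map_mul]; exact h1,
        by rw [← map_pow]; exact h2⟩
  exact (this.symm ▸ Algebra.mem_top : c ∈ (reach (A := A) (B := B) PPr pPr_mono).comap g)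

theorem range_le_reach_pSq {C : Type u} [CommRing C] [Algebra A C] (g : C →ₐ[A] B)
    (h : Gen A C PSq) : g.range ≤ reach (A := A) (B := B) PSq pSq_mono := by
  rintro _ ⟨c, rfl⟩
  have := h ((reach (A := A) (B := B) PSq pSq_mono).comap g) fun c hc =>
    pSq_closed_reach (g c) ⟨by rw [← map_pow]; exact hc.1, by rw [← map_pow]; exact hc.2⟩
  exact (this.symm ▸ Algebra.mem_top : c ∈ (reach (A := A) (B := B) PSq pSq_mono).comap g)

theorem surjective_spec_of_isDominant [IsDominant (spec A B)] (T : Subalgebra A B)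
    [Algebra.IsIntegral A T] : Function.Surjective (spec A T) := by
  haveI : IsIntegralHom (spec A T) :=
    (IsIntegralHom.SpecMap_iff (φ := CommRingCat.ofHom (algebraMap A T))).mpr
      (algebraMap_isIntegral_iff.mpr inferInstance)
  haveI : IsDominant (Spec.map (CommRingCat.ofHom T.val.toRingHom) ≫ spec A T) := by
    rw [← Spec.map_comp]
    exact ‹IsDominant (spec A B)›
  haveI := IsDominant.of_comp (Spec.map (CommRingCat.ofHom T.val.toRingHom)) (spec A T)
  refine Set.range_eq_univ.mp ?_
  have hc : IsClosed (Set.range (spec A T)) := (spec A T).isClosedMap.isClosed_range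
  rw [← hc.closure_eq, (spec A T).denseRange.closure_eq]

end Groth.L19.Tower
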