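import Mathlib.RingTheory.IntegralClosure.IsIntegralClosure.Basic
import Mathlib.RingTheory.Ideal.GoingUp
import Mathlib.RingTheory.Ideal.MinimalPrime.Basic
import Mathlib.RingTheory.Adjoin.FG
import Mathlib.Algebra.CharP.Basic
import Mathlib.Algebra.CharP.Reduced

/-!
# Towers of square-cube and `p`-th root extensions
-/

universe u

namespace Groth.L19.Tower

set_option linter.style.haveILetI false

variable {A B : Type u} [CommRing A] [CommRing B] [Algebra A B]

/-- The square and cube of `b` lie in `S`. -/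
def PSq (S : Subalgebra A B) (b : B) : Prop := b ^ 2 ∈ S ∧ b ^ 3 ∈ S

/-- Square and cube, or `p b` and `b^p` for a prime `p`, lie in `S`. -/
def PPr (S : Subalgebra A B) (b : B) : Prop :=
  (b ^ 2 ∈ S ∧ b ^ 3 ∈ S) ∨ ∃ p : ℕ, p.Prime ∧ (p : B) * b ∈ S ∧ b ^ p ∈ S

theorem pSq_mono : ∀ (S T : Subalgebra A B) (b : B), S ≤ T → PSq S b → PSq T b :=
  fun _ _ _ h ⟨h2, h3⟩ => ⟨h h2, h h3⟩

theorem pPr_mono : ∀ (S T : Subalgebra A B) (b : B), S ≤ T → PPr S b → PPr T b :=
  fun _ _ _ h => Or.imp (fun ⟨h2, h3⟩ => ⟨h h2, h h3⟩) fun ⟨p, hp, h1, h2⟩ => ⟨p, hp, h h1, h h2⟩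

variable (P : Subalgebra A B → B → Prop)

/-- Each entry satisfies `P` over the subalgebra generated by the earlier ones. -/
def Adm (l : List B) : Prop :=
  ∀ i : Fin l.length, P (Algebra.adjoin A {b : B | ∃ j : Fin l.length, j < i ∧ b = l.get j}) (l.get i)

variable {P}

theorem adm_nil : Adm P ([] : List B) := fun i => i.elim0

theorem Adm.append (hmono : ∀ (S T : Subalgebra A B) (b : B), S ≤ T → P S b → P T b)
    {l₁ l₂ : List B} (h₁ : Adm P l₁) (h₂ : Adm P l₂) : Adm P (l₁ ++ l₂) := by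
  rintro ⟨i, hi⟩
  have hi' : i < l₁.length + l₂.length := by simpa using hi
  rcases lt_or_ge i l₁.length with h | h
  · have := h₁ ⟨i, h⟩
    simp only [List.get_eq_getElem, List.getElem_append_left h] at this ⊢
    refine hmono _ _ _ (Algebra.adjoin_mono ?_) this
    rintro _ ⟨j, hj, rfl⟩
    exact ⟨⟨j, by simp only [List.length_append]; omega⟩, hj,
      (List.getElem_append_left j.2).symm⟩
  · have := h₂ ⟨i - l₁.length, by omega⟩
    simp only [List.get_eq_getElem, List.getElem_append_right h] at this ⊢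
    refine hmono _ _ _ (Algebra.adjoin_mono ?_) this
    rintro _ ⟨j, hj, rfl⟩
    have hj' : (j : ℕ) < i - l₁.length := hj
    refine ⟨⟨l₁.length + j, by simp only [List.length_append]; omega⟩,
      show l₁.length + (j : ℕ) < i by omega, ?_⟩
    rw [List.getElem_append_right (by simp)]
    simp

theorem adjoin_le_of_adm (hmono : ∀ (S T : Subalgebra A B) (b : B), S ≤ T → P S b → P T b)
    {S : Subalgebra A B} (hS : ∀ b, P S b → b ∈ S) {l : List B} (hl : Adm P l) :
    Algebra.adjoin A {b : B | b ∈ l} ≤ S := by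
  have key : ∀ (n : ℕ) (i : Fin l.length), i.1 = n → l.get i ∈ S := by
    intro n
    induction n using Nat.strong_induction_on with
    | _ n ih =>
      intro i hin
      refine hS _ (hmono _ _ _ (Algebra.adjoin_le ?_) (hl i))
      rintro _ ⟨j, hj, rfl⟩
      exact ih j.1 (hin ▸ hj) j rfl
  refine Algebra.adjoin_le fun b hb => ?_
  obtain ⟨i, rfl⟩ := List.mem_iff_get.mp hb
  exact key i.1 i rfl

variable (hmono : ∀ (S T : Subalgebra A B) (b : B), S ≤ T → P S b → P T b)

variable (P) in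
/-- The elements reachable by towers. -/
def reach (hmono : ∀ (S T : Subalgebra A B) (b : B), S ≤ T → P S b → P T b) : Subalgebra A B where
  carrier := {b | ∃ l, Adm P l ∧ b ∈ Algebra.adjoin A {b : B | b ∈ l}}
  mul_mem' := by
    rintro a b ⟨l, hl, ha⟩ ⟨m, hm, hb⟩
    exact ⟨l ++ m, hl.append hmono hm, mul_mem
      (Algebra.adjoin_mono (fun _ h => List.mem_append_left m h) ha)
      (Algebra.adjoin_mono (fun _ h => List.mem_append_right l h) hb)⟩
  add_mem' := by
    rintro a b ⟨l, hl, ha⟩ ⟨m, hm, hb⟩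
    exact ⟨l ++ m, hl.append hmono hm, add_mem
      (Algebra.adjoin_mono (fun _ h => List.mem_append_left m h) ha)
      (Algebra.adjoin_mono (fun _ h => List.mem_append_right l h) hb)⟩
  algebraMap_mem' a := ⟨[], adm_nil, Subalgebra.algebraMap_mem _ a⟩

include hmono in
theorem exists_adm_finset (E : Finset B) (hE : ∀ x ∈ E, x ∈ reach P hmono) :
    ∃ l, Adm P l ∧ (E : Set B) ⊆ Algebra.adjoin A {b : B | b ∈ l} := by
  classical
  induction E using Finset.induction with
  | empty => exact ⟨[], adm_nil, by simp⟩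
  | @insert a s _ ih =>
    obtain ⟨l, hl, hs⟩ := ih fun x hx => hE x (Finset.mem_insert_of_mem hx)
    obtain ⟨m, hm, ha⟩ := hE a (Finset.mem_insert_self a s)
    refine ⟨l ++ m, hl.append hmono hm, ?_⟩
    rw [Finset.coe_insert, Set.insert_subset_iff]
    exact ⟨Algebra.adjoin_mono (fun _ h => List.mem_append_right l h) ha,
      hs.trans (Algebra.adjoin_mono fun _ h => List.mem_append_left m h)⟩

include hmono in
theorem mem_reach_of_pair {x y b : B} (hx : x ∈ reach P hmono) (hy : y ∈ reach P hmono)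
    (h : ∀ S : Subalgebra A B, x ∈ S → y ∈ S → P S b) : b ∈ reach P hmono := by
  obtain ⟨l, hl, hx⟩ := hx
  obtain ⟨m, hm, hy⟩ := hy
  have hlm := hl.append hmono hm
  refine ⟨(l ++ m) ++ [b], ?_, Algebra.subset_adjoin (by simp)⟩
  rintro ⟨i, hi⟩
  have hi' : i < (l ++ m).length + 1 := by
    simpa only [List.length_append, List.length_singleton] using hi
  rcases Nat.lt_succ_iff_lt_or_eq.mp hi' with h' | rfl
  · have := hlm ⟨i, h'⟩
    simp only [List.get_eq_getElem, List.getElem_append_left h'] at this ⊢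
    refine hmono _ _ _ (Algebra.adjoin_mono ?_) this
    rintro _ ⟨j, hj, rfl⟩
    exact ⟨⟨j, by simp only [List.length_append, List.length_singleton]; have := j.2; simp only [List.length_append] at this; omega⟩, hj,
      (List.getElem_append_left j.2).symm⟩
  · simp only [List.get_eq_getElem, List.getElem_append_right le_rfl, Nat.sub_self,
      List.getElem_cons_zero]
    have hsub : ∀ z ∈ l ++ m, ∃ j : Fin ((l ++ m) ++ [b]).length,
        j < ⟨(l ++ m).length, hi⟩ ∧ z = ((l ++ m) ++ [b])[j.1] := by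
      intro z hz
      obtain ⟨k, hk, rfl⟩ := List.getElem_of_mem hz
      exact ⟨⟨k, by simp only [List.length_append] at hk ⊢; omega⟩, hk, (List.getElem_append_left hk).symm⟩
    exact h _
      (Algebra.adjoin_mono (fun _ h => hsub _ (List.mem_append_left m h)) hx)
      (Algebra.adjoin_mono (fun _ h => hsub _ (List.mem_append_right l h)) hy)

theorem pSq_closed_reach (b : B) (h : PSq (reach (A := A) PSq pSq_mono) b) :
    b ∈ reach (A := A) PSq pSq_mono :=
  mem_reach_of_pair pSq_mono h.1 h.2 fun _ h2 h3 => ⟨h2, h3⟩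

theorem pPr_closed_reach (b : B) (h : PPr (reach (A := A) PPr pPr_mono) b) :
    b ∈ reach (A := A) PPr pPr_mono := by
  rcases h with ⟨h2, h3⟩ | ⟨p, hp, h1, h2⟩
  · exact mem_reach_of_pair pPr_mono h2 h3 fun _ h2 h3 => Or.inl ⟨h2, h3⟩
  · exact mem_reach_of_pair pPr_mono h1 h2 fun _ h1 h2 => Or.inr ⟨p, hp, h1, h2⟩

section Core

variable (Q : ℕ → Prop)

variable (A B) in
/-- Every element is, up to an `e`-power, a fraction from `A` modulo each prime. -/
def ResCond : Prop :=
  ∀ q : Ideal B, q.IsPrime → ∃ e : ℕ, Q e ∧ (e = 1 ∨ e.Prime ∧ (e : B) ∈ q) ∧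
    ∀ b : B, ∃ n : ℕ, ∃ a s : A, algebraMap A B s ∉ q ∧
      algebraMap A B s * b ^ (e ^ n) - algebraMap A B a ∈ q

variable (A B) in
/-- Distinct primes of `B` have distinct preimages in `A`. -/
def SpecInj : Prop :=
  ∀ q₁ q₂ : Ideal B, q₁.IsPrime → q₂.IsPrime →
    q₁.comap (algebraMap A B) = q₂.comap (algebraMap A B) → q₁ = q₂

variable {Q}

theorem exists_elt [Algebra.IsIntegral A B] (hspec : SpecInj A B) (hres : ResCond A B Q) (b₀ : B)
    (hb₀ : b₀ ∉ (⊥ : Subalgebra A B)) :
    ∃ b, b ∉ (⊥ : Subalgebra A B) ∧ (PSq (⊥ : Subalgebra A B) b ∨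
      ∃ p, Q p ∧ p.Prime ∧ (p : B) * b ∈ (⊥ : Subalgebra A B) ∧ b ^ p ∈ (⊥ : Subalgebra A B)) := by
  classical
  let C : Subalgebra A B := Algebra.adjoin A {b₀}
  let K : Ideal C :=
    { carrier := {c | ∀ d : C, ((d * c : C) : B) ∈ (⊥ : Subalgebra A B)}
      zero_mem' := fun d => by simp
      add_mem' := fun {a b} ha hb d => by
        rw [mul_add]; exact add_mem (ha d) (hb d)
      smul_mem' := fun e c hc d => by
        rw [smul_eq_mul, ← mul_assoc]; exact hc (d * e) }
  have hK : ∀ c ∈ K, (c : B) ∈ (⊥ : Subalgebra A B) := fun c hc => by simpa using hc 1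
  let J : Ideal A := K.comap (algebraMap A C)
  have hJ : J ≠ ⊤ := by
    intro h
    have h1 : (1 : C) ∈ K := by
      have : (1 : A) ∈ J := h ▸ Submodule.mem_top
      simpa [J] using this
    apply hb₀
    have := h1 ⟨b₀, Algebra.subset_adjoin rfl⟩
    simpa using this
  obtain ⟨p, hp⟩ := Ideal.nonempty_minimalPrimes hJ
  haveI : p.IsPrime := hp.1.1
  have hJp : J ≤ p := hp.1.2
  obtain ⟨q, -, hq, hqp⟩ : ∃ q ≥ (⊥ : Ideal B), q.IsPrime ∧ q.comap (algebraMap A B) = p := by
    refine Ideal.exists_ideal_over_prime_of_isIntegral p ⊥ ?_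
    intro a ha
    refine hJp (show algebraMap A C a ∈ K from fun d => ?_)
    have ha0 : algebraMap A B a = 0 := by simpa using ha
    simp [ha0]
  have hmem : ∀ a : A, algebraMap A B a ∈ q ↔ a ∈ p := fun a => by rw [← hqp]; rfl
  let Loc : B → Prop := fun z => ∃ s ∉ p, algebraMap A B s * z ∈ (⊥ : Subalgebra A B)
  have hnil : ∀ x : C, (x : B) ∈ q →
      ∃ N : ℕ, ∀ n ≥ N, Loc ((x : B) ^ n) := by
    intro x hx
    let M : Submonoid C := p.primeCompl.map (algebraMap A C : A →* C) ⊔ Submonoid.powers x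
    by_cases hd : Disjoint (K : Set C) (M : Set C)
    · obtain ⟨P, hP, hKP, hPM⟩ := Ideal.exists_le_prime_disjoint K M hd
      have hPp : P.comap (algebraMap A C) = p := by
        have hle : P.comap (algebraMap A C) ≤ p := fun a ha => by
          by_contra hap
          exact Set.disjoint_left.mp hPM ha
            ((le_sup_left : _ ≤ M) ⟨a, hap, rfl⟩)
        exact le_antisymm hle (hp.2 ⟨inferInstance, Ideal.comap_mono hKP⟩ hle)
      haveI : Algebra.IsIntegral C B := Algebra.IsIntegral.tower_top (R := A)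
      obtain ⟨Q', -, hQ', hQP⟩ : ∃ Q' ≥ (⊥ : Ideal B), Q'.IsPrime ∧
          Q'.comap (algebraMap C B) = P := by
        refine Ideal.exists_ideal_over_prime_of_isIntegral P ⊥ fun c hc => ?_
        have : c = 0 := Subtype.ext (by simpa using hc)
        subst this
        exact P.zero_mem
      have : Q' = q := hspec Q' q hQ' hq (by
        rw [hqp, ← hPp, ← hQP, Ideal.comap_comap, ← IsScalarTower.algebraMap_eq])
      subst this
      exact absurd ((le_sup_right : _ ≤ M) (Submonoid.mem_powers x))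
        (Set.disjoint_left.mp hPM (show x ∈ P by rw [← hQP]; exact hx))
    · obtain ⟨z, hzK, hzM⟩ := Set.not_disjoint_iff.mp hd
      obtain ⟨_, ⟨s, hs, rfl⟩, _, ⟨N, rfl⟩, rfl⟩ := Submonoid.mem_sup.mp hzM
      refine ⟨N, fun n hn => ⟨s, hs, ?_⟩⟩
      obtain ⟨k, rfl⟩ := Nat.exists_eq_add_of_le hn
      have := hzK (x ^ k)
      have e : algebraMap A B s * (x : B) ^ (N + k) =
          ((x ^ k * (algebraMap A C s * x ^ N) : C) : B) := by
        push_cast; rw [pow_add]; ring
      rw [e]; exact this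
  have hnloc : ∃ c : C, ¬ Loc (c : B) := by
    by_contra hc
    push Not at hc
    haveI : Module.Finite A C := Module.Finite.iff_fg.mpr
      (IsIntegral.fg_adjoin_singleton (Algebra.IsIntegral.isIntegral b₀))
    obtain ⟨G, hG⟩ := Module.Finite.fg_top (R := A) (M := C)
    choose s hs hs' using fun g : C => hc g
    let t := ∏ g ∈ G, s g
    have ht : t ∉ p := prod_mem (S := p.primeCompl) fun g _ => hs g
    refine ht (hJp (show algebraMap A C t ∈ K from fun d => ?_))
    suffices h : ∀ d : C, algebraMap A B t * (d : B) ∈ (⊥ : Subalgebra A B) by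
      simpa [mul_comm] using h d
    intro d
    have hd : d ∈ Submodule.span A (G : Set C) := hG ▸ Submodule.mem_top
    induction hd using Submodule.span_induction with
    | mem g hg =>
      rw [show t = (∏ g' ∈ G.erase g, s g') * s g from (Finset.prod_erase_mul _ _ hg).symm,
        map_mul, mul_assoc]
      exact mul_mem (Subalgebra.algebraMap_mem _ _) (hs' g)
    | zero => simp
    | add a b _ _ ha hb =>
      rw [Subalgebra.coe_add, mul_add]; exact add_mem ha hb
    | smul a b _ hb =>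
      rw [Subalgebra.coe_smul, mul_smul_comm]; exact Subalgebra.smul_mem _ hb a
  have hclear : ∀ {s : A} {z : B}, s ∉ p → ¬ Loc z →
      algebraMap A B s * z ∉ (⊥ : Subalgebra A B) := fun hs hz h => hz ⟨_, hs, h⟩
  by_cases h : ∃ x : C, (x : B) ∈ q ∧ ¬ Loc (x : B)
  · obtain ⟨x, hxq, hx⟩ := h
    have hex := hnil x hxq
    let m := Nat.find hex
    have hm : ∀ n ≥ m, Loc ((x : B) ^ n) := Nat.find_spec hex
    have hm2 : 2 ≤ m := by
      by_contra hlt
      exact hx (by simpa using hm 1 (by omega))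
    have hy : ¬ Loc ((x : B) ^ (m - 1)) := by
      intro hy
      refine Nat.find_min hex (show m - 1 < m by omega) fun n hn => ?_
      rcases Nat.eq_or_lt_of_le hn with rfl | h'
      · exact hy
      · exact hm n (by omega)
    obtain ⟨s, hs, hs2⟩ := hm ((m - 1) * 2) (by omega)
    obtain ⟨t, ht, ht3⟩ := hm ((m - 1) * 3) (by omega)
    refine ⟨algebraMap A B (s * t) * (x : B) ^ (m - 1),
      hclear (fun h => (Ideal.IsPrime.mem_or_mem ‹_› h).elim hs ht) hy, Or.inl ⟨?_, ?_⟩⟩
    · rw [show (algebraMap A B (s * t) * (x : B) ^ (m - 1)) ^ 2 = algebraMap A B (s * t * t) *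
        (algebraMap A B s * (x : B) ^ ((m - 1) * 2)) by rw [pow_mul]; simp only [map_mul]; ring]
      exact mul_mem (Subalgebra.algebraMap_mem _ _) hs2
    · rw [show (algebraMap A B (s * t) * (x : B) ^ (m - 1)) ^ 3 = algebraMap A B (s * t * (s * t) * s) *
        (algebraMap A B t * (x : B) ^ ((m - 1) * 3)) by rw [pow_mul]; simp only [map_mul]; ring]
      exact mul_mem (Subalgebra.algebraMap_mem _ _) ht3
  · push Not at h
    obtain ⟨c, hc⟩ := hnloc
    obtain ⟨e, hQe, he, hpi⟩ := hres q hq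
    have hloc : ∀ z : C, ∀ a s : A, algebraMap A B s ∉ q →
        algebraMap A B s * z - algebraMap A B a ∈ q → Loc (z : B) := by
      intro z a s hs hz
      obtain ⟨t, ht, ht'⟩ := h (algebraMap A C s * z - algebraMap A C a) (by simpa using hz)
      refine ⟨t * s, fun h => (Ideal.IsPrime.mem_or_mem ‹_› h).elim ht fun h => hs ((hmem s).mpr h), ?_⟩
      rw [show algebraMap A B (t * s) * (z : B) = algebraMap A B t *
        ((algebraMap A C s * z - algebraMap A C a : C) : B) + algebraMap A B (t * a) by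
          simp only [map_mul]; push_cast; ring]
      exact add_mem ht' (Subalgebra.algebraMap_mem _ _)
    have hex : ∃ n, Loc ((c : B) ^ (e ^ n)) := by
      obtain ⟨n, a, s, hs, hn⟩ := hpi c
      exact ⟨n, by simpa using hloc (c ^ (e ^ n)) a s hs (by simpa using hn)⟩
    have hn0 : Nat.find hex ≠ 0 := fun h0 => hc (by
      have := Nat.find_spec hex; rw [h0] at this; simpa using this)
    obtain ⟨n, hn⟩ := Nat.exists_eq_succ_of_ne_zero hn0
    have hy : ¬ Loc ((c : B) ^ (e ^ n)) := Nat.find_min hex (by omega)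
    rcases he with rfl | ⟨hprime, heq⟩
    · exact absurd (Nat.find_spec hex) (by simpa [hn] using hy)
    obtain ⟨s, hs, hse⟩ := Nat.find_spec hex
    rw [hn, pow_succ, pow_mul] at hse
    obtain ⟨t, ht, hte⟩ := h ((e : C) * c ^ (e ^ n)) (by
      push_cast; exact Ideal.mul_mem_right _ _ heq)
    refine ⟨algebraMap A B (t * s) * (c : B) ^ (e ^ n),
      hclear (fun h => (Ideal.IsPrime.mem_or_mem ‹_› h).elim ht hs) hy,
      Or.inr ⟨e, hQe, hprime, ?_, ?_⟩⟩
    · rw [show (e : B) * (algebraMap A B (t * s) * (c : B) ^ (e ^ n)) = algebraMap A B s *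
        (algebraMap A B t * (((e : C) * c ^ (e ^ n) : C) : B)) by
          simp only [map_mul]; push_cast; ring]
      exact mul_mem (Subalgebra.algebraMap_mem _ _) hte
    · obtain ⟨d, hd⟩ := Nat.exists_eq_succ_of_ne_zero hprime.ne_zero
      rw [mul_pow, show algebraMap A B (t * s) ^ e * ((c : B) ^ (e ^ n)) ^ e =
        algebraMap A B (t ^ e * s ^ d) * (algebraMap A B s * ((c : B) ^ (e ^ n)) ^ e) by
          simp only [map_mul, map_pow]
          rw [mul_pow, show algebraMap A B s ^ e = algebraMap A B s ^ d * algebraMap A B s by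
            rw [hd, pow_succ]]
          ring]
      exact mul_mem (Subalgebra.algebraMap_mem _ _) hse

/-- A subalgebra closed under the two root extractions is everything. -/
theorem eq_top_of_closed [Algebra.IsIntegral A B] (hspec : SpecInj A B) (hres : ResCond A B Q)
    (S : Subalgebra A B) (hsq : ∀ b, b ^ 2 ∈ S → b ^ 3 ∈ S → b ∈ S)
    (hpr : ∀ p, Q p → p.Prime → ∀ b : B, (p : B) * b ∈ S → b ^ p ∈ S → b ∈ S) : S = ⊤ := by
  rw [eq_top_iff]
  intro b₀ _
  by_contra hb₀
  haveI : Algebra.IsIntegral S B := Algebra.IsIntegral.tower_top (R := A)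
  have hbot : ∀ z : B, z ∈ (⊥ : Subalgebra S B) ↔ z ∈ S := fun z => by
    rw [Algebra.mem_bot]
    exact ⟨fun ⟨s, hs⟩ => hs ▸ s.2, fun h => ⟨⟨z, h⟩, rfl⟩⟩
  have hspec' : SpecInj S B := fun q₁ q₂ h₁ h₂ h => hspec q₁ q₂ h₁ h₂ (by
    rw [IsScalarTower.algebraMap_eq A S B, ← Ideal.comap_comap, ← Ideal.comap_comap, h])
  have hres' : ResCond S B Q := fun q hq => by
    obtain ⟨e, hQ, he, hb⟩ := hres q hq
    refine ⟨e, hQ, he, fun b => ?_⟩
    obtain ⟨n, a, s, hs, h⟩ := hb b
    exact ⟨n, algebraMap A S a, algebraMap A S s, hs, h⟩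
  obtain ⟨b, hb, hcase⟩ := exists_elt hspec' hres' b₀ (by rwa [hbot])
  rw [hbot] at hb
  rcases hcase with ⟨h2, h3⟩ | ⟨p, hQ, hp, h1, h2⟩
  · exact hb (hsq b ((hbot _).mp h2) ((hbot _).mp h3))
  · exact hb (hpr p hQ hp b ((hbot _).mp h1) ((hbot _).mp h2))

end Core

theorem isIntegral_of_closed {b : B}
    (h : PPr (integralClosure A B) b) : b ∈ integralClosure A B := by
  rcases h with ⟨h2, -⟩ | ⟨p, hp, -, h2⟩
  · exact IsIntegral.of_pow two_pos h2
  · exact IsIntegral.of_pow hp.pos h2

theorem eq_of_sq_cube {K : Type*} [Field K] {x y : K} (h2 : x ^ 2 = y ^ 2) (h3 : x ^ 3 = y ^ 3) :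
    x = y := by
  rcases eq_or_ne y 0 with rfl | hy
  · simpa using h2
  · rw [pow_succ x, h2, pow_succ y 2] at h3
    exact mul_left_cancel₀ (pow_ne_zero 2 hy) h3

theorem eq_of_prime {K : Type*} [Field K] {x y : K} {p : ℕ} (hp : p.Prime)
    (h1 : (p : K) * x = p * y) (h2 : x ^ p = y ^ p) : x = y := by
  rcases eq_or_ne (p : K) 0 with h0 | h0
  · haveI : Fact p.Prime := ⟨hp⟩
    haveI : CharP K p := (CharP.charP_iff_prime_eq_zero hp).mpr h0
    exact frobenius_inj K p h2
  · exact mul_left_cancel₀ h0 h1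

/-- The elements which are fractions from `A` modulo a prime. -/
def fracMod (q : Ideal B) [q.IsPrime] : Subalgebra A B where
  carrier := {b | ∃ a s : A, algebraMap A B s ∉ q ∧ algebraMap A B s * b - algebraMap A B a ∈ q}
  mul_mem' := by
    rintro x y ⟨a, s, hs, h⟩ ⟨a', s', hs', h'⟩
    refine ⟨a * a', s * s', by
      rw [map_mul]; exact fun h => (Ideal.IsPrime.mem_or_mem ‹_› h).elim hs hs', ?_⟩
    rw [show algebraMap A B (s * s') * (x * y) - algebraMap A B (a * a') =
      (algebraMap A B s * x - algebraMap A B a) * (algebraMap A B s' * y) +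
        algebraMap A B a * (algebraMap A B s' * y - algebraMap A B a') by
          simp only [map_mul]; ring]
    exact add_mem (Ideal.mul_mem_right _ _ h) (Ideal.mul_mem_left _ _ h')
  add_mem' := by
    rintro x y ⟨a, s, hs, h⟩ ⟨a', s', hs', h'⟩
    refine ⟨a * s' + a' * s, s * s', by
      rw [map_mul]; exact fun h => (Ideal.IsPrime.mem_or_mem ‹_› h).elim hs hs', ?_⟩
    rw [show algebraMap A B (s * s') * (x + y) - algebraMap A B (a * s' + a' * s) =
      algebraMap A B s' * (algebraMap A B s * x - algebraMap A B a) +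
        algebraMap A B s * (algebraMap A B s' * y - algebraMap A B a') by
          simp only [map_mul, map_add]; ring]
    exact add_mem (Ideal.mul_mem_left _ _ h) (Ideal.mul_mem_left _ _ h')
  algebraMap_mem' a := ⟨a, 1, by simpa using Ideal.IsPrime.one_notMem ‹_›, by simp⟩

theorem fracMod_closed (q : Ideal B) [q.IsPrime] {b : B} (h : PSq (fracMod (A := A) q) b) :
    b ∈ fracMod (A := A) q := by
  obtain ⟨⟨a₂, s₂, hs₂, h₂⟩, a₃, s₃, hs₃, h₃⟩ := h
  by_cases hb : b ∈ q
  · exact ⟨0, 1, by simpa using Ideal.IsPrime.one_notMem ‹_›, by simpa using hb⟩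
  have ha₂ : algebraMap A B a₂ ∉ q := fun h => by
    have : algebraMap A B s₂ * b ^ 2 ∈ q := by
      simpa using add_mem h₂ h
    rcases Ideal.IsPrime.mem_or_mem ‹_› this with h | h
    · exact hs₂ h
    · exact hb (Ideal.IsPrime.mem_of_pow_mem ‹_› _ h)
  refine ⟨s₂ * a₃, s₃ * a₂, by
    rw [map_mul]; exact fun h => (Ideal.IsPrime.mem_or_mem ‹_› h).elim hs₃ ha₂, ?_⟩
  rw [show algebraMap A B (s₃ * a₂) * b - algebraMap A B (s₂ * a₃) =
    algebraMap A B s₂ * (algebraMap A B s₃ * b ^ 3 - algebraMap A B a₃) -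
      algebraMap A B s₃ * b * (algebraMap A B s₂ * b ^ 2 - algebraMap A B a₂) by
        simp only [map_mul]; ring]
  exact sub_mem (Ideal.mul_mem_left _ _ h₃) (Ideal.mul_mem_left _ _ h₂)

end Groth.L19.Tower
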