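import Groth.Agent.L19.Tower.Scheme
import Mathlib.FieldTheory.IsAlgClosed.AlgebraicClosure
import Mathlib.Algebra.Category.Ring.Under.Basic
import Mathlib.CategoryTheory.Filtered.Basic

/-!
# Filtered colimits of universal homeomorphisms of affine schemes
-/

universe u

open CategoryTheory CategoryTheory.Limits AlgebraicGeometry

namespace Groth.L19.Tower

set_option backward.isDefEq.respectTransparency.types false
set_option backward.isDefEq.respectTransparency false
set_option linter.style.haveILetI false

section

variable {A B : Type u} [CommRing A] [CommRing B] [Algebra A B]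

theorem specInj_of_universallyInjective (h : UniversallyInjective (spec A B)) : SpecInj A B := by
  intro q₁ q₂ h₁ h₂ e
  exact congrArg PrimeSpectrum.asIdeal ((spec A B).injective
    (a₁ := (⟨q₁, h₁⟩ : Spec (CommRingCat.of B))) (a₂ := ⟨q₂, h₂⟩) (PrimeSpectrum.ext e))

theorem gen_pPr_of_universallyInjective [Algebra.IsIntegral A B]
    (h : UniversallyInjective (spec A B)) : Gen A B PPr :=
  fun S hS => eq_top_of_closed (specInj_of_universallyInjective h)
    (resCond_of_universallyInjective h) S
    (fun b h2 h3 => hS b (Or.inl ⟨h2, h3⟩)) fun p _ hp b h1 h2 => hS b (Or.inr ⟨p, hp, h1, h2⟩)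

theorem isIntegral_of_universallyClosed (h : UniversallyClosed (spec A B)) :
    Algebra.IsIntegral A B :=
  algebraMap_isIntegral_iff.mp
    ((IsIntegralHom.SpecMap_iff (φ := CommRingCat.ofHom (algebraMap A B))).mp
      (IsIntegralHom.iff_universallyClosed_and_isAffineHom.mpr ⟨h, inferInstance⟩))

theorem universallyClosed_of_isIntegral [Algebra.IsIntegral A B] :
    UniversallyClosed (spec A B) := by
  haveI : IsIntegralHom (spec A B) :=
    (IsIntegralHom.SpecMap_iff (φ := CommRingCat.ofHom (algebraMap A B))).mpr
      (algebraMap_isIntegral_iff.mpr inferInstance)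
  infer_instance

theorem gen_of_reach_eq_top {P : Subalgebra A B → B → Prop}
    (hmono : ∀ (S T : Subalgebra A B) (b : B), S ≤ T → P S b → P T b)
    (h : reach P hmono = ⊤) : Gen A B P :=
  gen_of_covered hmono fun b => (h.symm ▸ Algebra.mem_top : b ∈ reach P hmono)

/-- An embedding of an algebraic purely inseparable residue field over a given geometric point. -/
theorem exists_hom_over (h : FlatMor.IsUnivHomeo (spec A B)) (p : Spec (CommRingCat.of A))
    (K : Type u) [Field K] [IsAlgClosed K]
    (σ : (Spec (CommRingCat.of A)).residueField p →+* K) :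
    ∃ ψ : B →+* K, ψ.comp (algebraMap A B) = σ.comp (toKappa p) := by
  obtain ⟨q, rfl⟩ := (Groth.L20.isHomeomorph_of_isUnivHomeo h).surjective p
  have hpi := (((tfae_universallyInjective (spec A B)).out 0 2 rfl rfl).mp
      ((Groth.L20.isUnivHomeo_iff _).mp h).2.1).2 q
  algebraize [((spec A B).residueFieldMap q).hom]
  letI := σ.toAlgebra
  let e : (Spec (CommRingCat.of B)).residueField q →ₐ[(Spec (CommRingCat.of A)).residueField
      (spec A B q)] K := IsAlgClosed.lift
  refine ⟨e.toRingHom.comp (toKappa q), RingHom.ext fun a => ?_⟩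
  show e (toKappa q (algebraMap A B a)) = _
  rw [← residueFieldMap_toKappa]
  exact e.commutes _

end

section

variable {A : CommRingCat.{u}} {J : Type u} [SmallCategory J] [IsFiltered J] {F : J ⥤ Under A}
  {c : Cocone F}

theorem eq_top_of_range_le (hc : IsColimit c) (S : Subring c.pt.right)
    (hA : ∀ a, c.pt.hom a ∈ S) (h : ∀ j x, (c.ι.app j).right x ∈ S) : S = ⊤ := by
  let s : Cocone F :=
    { pt := Under.mk (CommRingCat.ofHom (c.pt.hom.hom.codRestrict S hA))
      ι :=
        { app := fun j => Under.homMk (CommRingCat.ofHom ((c.ι.app j).right.hom.codRestrict S (h j))) (by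
            ext a
            refine Subtype.ext ?_
            exact congr($(Under.w (c.ι.app j)) a))
          naturality := fun i j f => by
            apply Under.UnderMorphism.ext
            ext x
            refine Subtype.ext ?_
            exact congr(($(c.w f)).right x) } }
  let v : s.pt ⟶ c.pt := Under.homMk (CommRingCat.ofHom S.subtype) rfl
  have e : hc.desc s ≫ v = 𝟙 c.pt := hc.hom_ext fun j => by
    rw [IsColimit.fac_assoc, Category.comp_id]
    rfl
  refine eq_top_iff.mpr fun b _ => ?_
  have hb : ((hc.desc s).right b).1 = b := congr(($e).right b)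
  exact hb ▸ ((hc.desc s).right b).2

theorem subalgebra_eq_top (hc : IsColimit c) :
    letI := c.pt.hom.hom.toAlgebra
    ∀ S : Subalgebra A c.pt.right, (∀ j x, (c.ι.app j).right x ∈ S) → S = ⊤ := by
  letI := c.pt.hom.hom.toAlgebra
  intro S h
  have := eq_top_of_range_le hc S.toSubring (fun a => S.algebraMap_mem a) h
  exact eq_top_iff.mpr fun b _ => (this.symm ▸ Subring.mem_top b : b ∈ S.toSubring)

theorem universallyClosed_colimit (hc : IsColimit c)
    (h : ∀ j, UniversallyClosed (Spec.map (F.obj j).hom)) :
    UniversallyClosed (Spec.map c.pt.hom) := by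
  letI := c.pt.hom.hom.toAlgebra
  haveI : Algebra.IsIntegral A c.pt.right := ⟨fun b => by
    have := subalgebra_eq_top hc (integralClosure A c.pt.right) fun j x => by
      letI := (F.obj j).hom.hom.toAlgebra
      let g : (F.obj j).right →ₐ[A] c.pt.right :=
        ⟨(c.ι.app j).right.hom, fun a => congr($(Under.w (c.ι.app j)) a)⟩
      exact ((isIntegral_of_universallyClosed (A := A) (B := (F.obj j).right) (h j)).isIntegral x).map g
    exact (this.symm ▸ Algebra.mem_top : b ∈ integralClosure A c.pt.right)⟩
  exact universallyClosed_of_isIntegral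

theorem gen_pPr_colimit (hc : IsColimit c)
    (h : ∀ j, UniversallyClosed (Spec.map (F.obj j).hom))
    (h' : ∀ j, UniversallyInjective (Spec.map (F.obj j).hom)) :
    letI := c.pt.hom.hom.toAlgebra
    Gen A c.pt.right PPr := by
  letI := c.pt.hom.hom.toAlgebra
  refine gen_of_reach_eq_top pPr_mono (subalgebra_eq_top hc _ fun j x => ?_)
  letI := (F.obj j).hom.hom.toAlgebra
  let g : (F.obj j).right →ₐ[A] c.pt.right :=
    ⟨(c.ι.app j).right.hom, fun a => congr($(Under.w (c.ι.app j)) a)⟩
  haveI := isIntegral_of_universallyClosed (A := A) (B := (F.obj j).right) (h j)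
  exact range_le_reach_pPr g (gen_pPr_of_universallyInjective (h' j)) ⟨x, rfl⟩

theorem gen_pSq_colimit (hc : IsColimit c)
    (h : ∀ j, FlatMor.IsUnivHomeo (Spec.map (F.obj j).hom) ∧
      ∀ x : Spec (F.obj j).right, Function.Surjective ((Spec.map (F.obj j).hom).residueFieldMap x)) :
    letI := c.pt.hom.hom.toAlgebra
    Gen A c.pt.right PSq := by
  letI := c.pt.hom.hom.toAlgebra
  refine gen_of_reach_eq_top pSq_mono (subalgebra_eq_top hc _ fun j x => ?_)
  letI := (F.obj j).hom.hom.toAlgebra
  let g : (F.obj j).right →ₐ[A] c.pt.right :=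
    ⟨(c.ι.app j).right.hom, fun a => congr($(Under.w (c.ι.app j)) a)⟩
  exact range_le_reach_pSq g (gen_pSq_of_isUnivHomeo (A := A) (B := (F.obj j).right) (h j).1 (h j).2)
    ⟨x, rfl⟩

theorem surjective_colimit (hc : IsColimit c)
    (h : ∀ j, FlatMor.IsUnivHomeo (Spec.map (F.obj j).hom)) :
    Function.Surjective (Spec.map c.pt.hom) := by
  intro p
  let K := AlgebraicClosure ((Spec A).residueField p)
  let σ : A →+* K := (algebraMap ((Spec A).residueField p) K).comp (toKappa (B := A) p)
  have hex : ∀ j, ∃ ψ : (F.obj j).right →+* K, ψ.comp (F.obj j).hom.hom = σ := fun j => by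
    letI := (F.obj j).hom.hom.toAlgebra
    exact exists_hom_over (A := A) (B := (F.obj j).right) (h j) p K (algebraMap _ K)
  choose ψ hψ using hex
  have huniq : ∀ j (a b : (F.obj j).right →+* K), a.comp (F.obj j).hom.hom = σ →
      b.comp (F.obj j).hom.hom = σ → a = b := fun j a b ha hb => by
    have inj := ((tfae_universallyInjective (Spec.map (F.obj j).hom)).out 0 1 rfl rfl).mp
      ((Groth.L20.isUnivHomeo_iff _).mp (h j)).2.1 K
    have := @inj (Spec.map (CommRingCat.ofHom a)) (Spec.map (CommRingCat.ofHom b)) (by
      simp only [← Spec.map_comp]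
      exact congrArg Spec.map (CommRingCat.hom_ext (ha.trans hb.symm)))
    exact congrArg CommRingCat.Hom.hom (Spec.map_injective this)
  let s : Cocone F :=
    { pt := Under.mk (CommRingCat.ofHom σ)
      ι :=
        { app := fun j => Under.homMk (CommRingCat.ofHom (ψ j)) (CommRingCat.hom_ext (hψ j))
          naturality := fun i j f => by
            apply Under.UnderMorphism.ext
            refine CommRingCat.hom_ext ?_
            show (ψ j).comp (F.map f).right.hom = ψ i
            refine huniq i _ _ ?_ (hψ i)
            rw [RingHom.comp_assoc, show (F.map f).right.hom.comp (F.obj i).hom.hom = (F.obj j).hom.hom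
              from congrArg CommRingCat.Hom.hom (Under.w (F.map f)), hψ j] } }
  let χ : c.pt.right →+* K := (hc.desc s).right.hom
  refine ⟨⟨RingHom.ker χ, RingHom.ker_isPrime χ⟩, PrimeSpectrum.ext ?_⟩
  ext a
  show χ (c.pt.hom a) = 0 ↔ a ∈ p.asIdeal
  have : χ (c.pt.hom a) = σ a := congr($(Under.w (hc.desc s)) a)
  rw [this, ← toKappa_eq_zero p]
  exact map_eq_zero (algebraMap ((Spec A).residueField p) K)

end

end Groth.L19.Tower
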